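import Mathlib.GroupTheory.Subgroup.Simple
import Mathlib.GroupTheory.Transfer
import Cfsg.Agent.Solvable.Basics
import Cfsg.Agent.KGroup.SmallOrder

/-!
Finite groups without a nontrivial solvable normal subgroup: orders that force solvability, the Sylow
normaliser step, and simplicity for minimal orders.
-/

set_option autoImplicit false
set_option linter.unusedSectionVars false

namespace CfsgLib.RadFree

open Subgroup

universe u

/-- No nontrivial solvable normal subgroup. -/
def NS (G : Type*) [Group G] : Prop := ∀ N : Subgroup G, N.Normal → Group.IsSolvable N → N = ⊥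

theorem ns_of_cores {G : Type*} [Group G] [Finite G] (hodd : Cfsg.pPrimeCore 2 G = ⊥)
    (htwo : Cfsg.pCore 2 G = ⊥) : NS G := by
  intro N hN hs
  by_contra hne
  haveI := hN
  obtain ⟨M, hM, hM1, -, -, -, p, hp, -, hpg⟩ :=
    CfsgLib.Solvable.exists_normal_elementary_le hne hs
  haveI := Fact.mk hp
  refine hM1 (le_bot_iff.1 ?_)
  by_cases h2 : p = 2
  · subst h2
    exact htwo ▸ CfsgLib.Solvable.le_pCore 2 hM hpg
  · obtain ⟨k, hk⟩ := IsPGroup.iff_card.1 hpg
    refine hodd ▸ CfsgLib.Solvable.le_pPrimeCore 2 hM ?_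
    rw [hk]
    exact Nat.Coprime.pow_left k ((Nat.coprime_primes hp Nat.prime_two).2 h2)

theorem NS.of_mulEquiv {G H : Type*} [Group G] [Group H] (h : NS G) (e : G ≃* H) : NS H := by
  intro N hN hs
  have h1 := h (N.comap e.toMonoidHom) (hN.comap _)
    (Group.isSolvable_of_isSolvable_injective
      (f := (e.toMonoidHom.comp (N.comap e.toMonoidHom).subtype).codRestrict N fun x => x.2)
      fun a b hab => Subtype.ext (e.injective (congrArg Subtype.val hab)))
  rw [← map_comap_eq_self_of_surjective (f := e.toMonoidHom) e.surjective N, h1, Subgroup.map_bot]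

theorem NS.not_isSolvable {G : Type*} [Group G] [Nontrivial G] (h : NS G) : ¬ Group.IsSolvable G := by
  intro hs
  exact top_ne_bot (h ⊤ inferInstance
    (Group.isSolvable_of_isSolvable_injective (f := (Subgroup.topEquiv (G := G)).toMonoidHom) (Subgroup.topEquiv (G := G)).injective))

/-- The order `d` is excluded by two prime divisors or by one Sylow number test. -/
def OrdTest (d : ℕ) : Prop :=
  (∃ pq ∈ [(2, 3), (2, 5), (2, 7), (3, 5), (3, 7), (5, 7)], d ∣ pq.1 ^ 7 * pq.2 ^ 7) ∨
    ∃ pm ∈ [(5, d / 5), (7, d / 7)], d = pm.1 * pm.2 ∧ ¬ pm.1 ∣ pm.2 ∧ 1 < pm.2 ∧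
      ∀ k ∈ List.range (pm.2 + 1), CfsgLib.SmallOrder.Excluded pm.1 1 pm.2 k

theorem isSolvable_of_dvd_two {G : Type*} [Group G] [Finite G] (p q a b : ℕ) (hp : p.Prime) (hq : q.Prime)
    (h : Nat.card G ∣ p ^ a * q ^ b) : Group.IsSolvable G := by
  obtain ⟨x, y, hx, hy, hxy⟩ := Nat.dvd_mul.1 h
  obtain ⟨i, -, rfl⟩ := (Nat.dvd_prime_pow hp).1 hx
  obtain ⟨j, -, rfl⟩ := (Nat.dvd_prime_pow hq).1 hy
  exact CfsgLib.Char.isSolvable_of_card_eq p q i j hp hq hxy.symm

theorem false_of_ordTest {G : Type*} [Group G] [Finite G] [IsSimpleGroup G] (hG : ¬ IsMulCommutative G)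
    (h : OrdTest (Nat.card G)) : False := by
  rcases h with ⟨⟨p, q⟩, hmem, hd⟩ | ⟨⟨p, m⟩, hmem, hd, hpm, hm, hk⟩
  · have hpq : p.Prime ∧ q.Prime := by
      simp only [List.mem_cons, Prod.mk.injEq, List.not_mem_nil, or_false] at hmem
      rcases hmem with h | h | h | h | h | h <;> obtain ⟨rfl, rfl⟩ := h <;> constructor <;> norm_num
    haveI := isSolvable_of_dvd_two p q 7 7 hpq.1 hpq.2 hd
    exact hG ⟨⟨IsSimpleGroup.comm_iff_isSolvable.2 inferInstance⟩⟩
  · have hp : p.Prime := by
      simp only [List.mem_cons, Prod.mk.injEq, List.not_mem_nil, or_false] at hmem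
      rcases hmem with h | h <;> obtain ⟨rfl, -⟩ := h <;> norm_num
    exact CfsgLib.SmallOrder.false_of_excluded hG p 1 m hp one_pos (by rw [pow_one]; exact hd) hpm hm hk

/-- If every divisor of `n` passes the test, groups of order dividing `n` are solvable. -/
theorem isSolvable_of_test (n : ℕ) (hn : ∀ d ∈ List.range (n + 1), d ∣ n → 1 < d → OrdTest d) (hn0 : 0 < n) :
    ∀ (G : Type u) [Group G] [Finite G], Nat.card G ∣ n → Group.IsSolvable G := by
  intro G _ _ hd
  induction hc : Nat.card G using Nat.strong_induction_on generalizing G with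
  | _ c ih =>
    subst hc
    rcases subsingleton_or_nontrivial G with hG | hG
    · infer_instance
    by_cases hs : ∃ N : Subgroup G, N.Normal ∧ N ≠ ⊥ ∧ N ≠ ⊤
    · obtain ⟨N, hN, hb, ht⟩ := hs
      haveI := hN
      haveI := ih _ (CfsgLib.Solvable.card_lt_of_ne_top ht) N
        ((Subgroup.card_subgroup_dvd_card N).trans hd) rfl
      haveI := ih _ (CfsgLib.Solvable.card_quotient_lt hb) (G ⧸ N)
        ((Subgroup.card_quotient_dvd_card N).trans hd) rfl
      exact Group.isSolvable_of_ker_le_range (N.subtype) (QuotientGroup.mk' N)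
        (by rw [QuotientGroup.ker_mk', Subgroup.range_subtype])
    push_neg at hs
    haveI : IsSimpleGroup G := ⟨fun N hN => or_iff_not_imp_left.2 fun hb => hs N hN hb⟩
    by_cases hcm : IsMulCommutative G
    · exact (IsSimpleGroup.comm_iff_isSolvable).1 fun a b => mul_comm' a b
    exact (false_of_ordTest hcm (hn _ (List.mem_range.2 (Nat.lt_succ_of_le (Nat.le_of_dvd hn0 hd))) hd
      Finite.one_lt_card)).elim

theorem NS.false_of_test {G : Type*} [Group G] [Finite G] [Nontrivial G] (h : NS G) (n : ℕ)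
    (hn0 : 0 < n) (hd : Nat.card G ∣ n)
    (hn : ∀ d ∈ List.range (n + 1), d ∣ n → 1 < d → OrdTest d) : False :=
  h.not_isSolvable (isSolvable_of_test n hn hn0 G hd)

/-- An order all of whose proper divisors force solvability. -/
theorem NS.isSimpleGroup {G : Type*} [Group G] [Finite G] [Nontrivial G] (h : NS G)
    (hn : ∀ d ∈ List.range (Nat.card G), d ∣ Nat.card G → 1 < d → OrdTest d) : IsSimpleGroup G := by
  refine ⟨fun N hN => or_iff_not_imp_right.2 fun ht => h N hN ?_⟩
  have hlt := CfsgLib.Solvable.card_lt_of_ne_top ht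
  exact isSolvable_of_test _ (fun d hd hdd h1 => hn d (List.mem_range.2 (by
    have := List.mem_range.1 hd; omega)) (hdd.trans (Subgroup.card_subgroup_dvd_card N)) h1) Nat.card_pos N dvd_rfl

/-- An element of prime order fixes the points of every invariant set smaller than its order. -/
theorem fix_of_invariant {G X : Type*} [Group G] [MulAction G X] [Finite G] {g : G} {p : ℕ}
    (hp : p.Prime) (hg : orderOf g = p) (S : Set X) (hSf : S.Finite) (hS : ∀ x ∈ S, g • x ∈ S)
    (hcard : S.ncard < p) {a : X} (ha : a ∈ S) : g • a = a := by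
  have hsub : MulAction.orbit (Subgroup.zpowers g) a ⊆ S := by
    rintro - ⟨⟨h, hh⟩, rfl⟩
    obtain ⟨i, rfl⟩ := mem_powers_iff_mem_zpowers.2 hh
    show g ^ i • a ∈ S
    clear hh
    induction i with
    | zero => simpa using ha
    | succ i ih => rw [pow_succ', mul_smul]; exact hS _ ih
  have hle := Set.ncard_le_ncard hsub hSf
  rw [← MulAction.index_stabilizer] at hle
  have hd := (MulAction.stabilizer (Subgroup.zpowers g) a).index_dvd_card
  rw [Nat.card_zpowers, hg] at hd
  rcases (Nat.dvd_prime hp).1 hd with h | h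
  · have ht := Subgroup.index_eq_one.1 h
    have hmem : (⟨g, Subgroup.mem_zpowers g⟩ : Subgroup.zpowers g) ∈
        MulAction.stabilizer (Subgroup.zpowers g) a := ht ▸ Subgroup.mem_top _
    exact hmem
  · omega

/-- Either a normal `p`-complement exists, or the Sylow normaliser is larger than the centraliser. -/
theorem exists_complement {G : Type*} [Group G] [Finite G] {p : ℕ} [Fact p.Prime] (P : Sylow p G)
    (hP : normalizer ((P : Subgroup G) : Set G) ≤ centralizer ((P : Subgroup G) : Set G)) :
    ∃ K : Subgroup G, K.Normal ∧ Nat.card K * Nat.card (P : Subgroup G) = Nat.card G :=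
  ⟨_, inferInstance, (MonoidHom.ker_transferSylow_isComplement' P hP).card_mul_card⟩

end CfsgLib.RadFree
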