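import Mathlib.LinearAlgebra.Matrix.GeneralLinearGroup.Card
import Mathlib.LinearAlgebra.Matrix.GeneralLinearGroup.Basic
import Mathlib.LinearAlgebra.Matrix.ProjectiveSpecialLinearGroup
import Mathlib.LinearAlgebra.Isomorphisms
import Cfsg.Agent.RadFree.Basic

/-!
Linear facts over the field with two elements: `GL = SL = PSL`, and no subgroup of order 1344 of `GL(4,2)`
without a solvable normal subgroup.
-/

set_option autoImplicit false
set_option linter.unusedSectionVars false

namespace CfsgLib.RadFree

open Matrix Subgroup MulAction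

/-- Over the field with two elements the general linear group is the projective special one. -/
theorem gl_equiv_psl (n : ℕ) :
    Nonempty (GL (Fin n) (ZMod 2) ≃* Matrix.ProjectiveSpecialLinearGroup (Fin n) (ZMod 2)) := by
  classical
  have hu : ∀ u : (ZMod 2)ˣ, u = 1 := fun u => Units.ext (by
    have : ∀ a : ZMod 2, a ≠ 0 → a = 1 := by decide
    exact this _ u.ne_zero)
  let f : Matrix.SpecialLinearGroup (Fin n) (ZMod 2) →* GL (Fin n) (ZMod 2) := Matrix.SpecialLinearGroup.toGL
  have hf : Function.Bijective f := by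
    refine ⟨fun a b h => Subtype.ext (congrArg Units.val h), fun g => ?_⟩
    refine ⟨⟨g.val, ?_⟩, Units.ext rfl⟩
    exact congrArg Units.val (hu (Matrix.GeneralLinearGroup.det g))
  have hcenter : Subgroup.center (Matrix.SpecialLinearGroup (Fin n) (ZMod 2)) = ⊥ := by
    rw [eq_bot_iff]
    intro A hA
    haveI : Subsingleton (rootsOfUnity (max (Fintype.card (Fin n)) 1) (ZMod 2)) :=
      ⟨fun a b => Subtype.ext ((hu a).trans (hu b).symm)⟩
    have := (Matrix.SpecialLinearGroup.center_equiv_rootsOfUnity (n := Fin n) (R := ZMod 2)).injective.subsingleton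
    rw [Subgroup.mem_bot]
    exact congrArg Subtype.val (Subsingleton.elim (⟨A, hA⟩ : Subgroup.center _) 1)
  exact ⟨(MulEquiv.ofBijective f hf).symm.trans
    (((QuotientGroup.quotientMulEquivOfEq hcenter).trans QuotientGroup.quotientBot).symm)⟩

/-- A large group of linear maps leaving a proper subspace invariant has a solvable normal subgroup. -/
theorem NS.false_of_invariant {H V : Type*} [Group H] [Finite H] [AddCommGroup V] [Module (ZMod 2) V]
    [Finite V] (hns : NS H) (f : H →* Module.End (ZMod 2) V) (hf : Function.Injective f)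
    (U : Submodule (ZMod 2) V) (hU : ∀ h, ∀ u ∈ U, f h u ∈ U)
    (hcard : Nat.card (Module.End (ZMod 2) U) * Nat.card (Module.End (ZMod 2) (V ⧸ U)) < Nat.card H) :
    False := by
  let φ : H →* Module.End (ZMod 2) U × Module.End (ZMod 2) (V ⧸ U) :=
    MonoidHom.prod
      { toFun := fun h => (f h).restrict (hU h)
        map_one' := by ext u; simp
        map_mul' := fun a b => by ext u; simp }
      { toFun := fun h => U.mapQ U (f h) (fun u hu => hU h u hu)
        map_one' := by ext u; simp
        map_mul' := fun a b => by ext u; simp }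
  have hker : ∀ x : φ.ker, ∀ v : V, f x.1 v - v ∈ U ∧ (v ∈ U → f x.1 v = v) := by
    intro x v
    have h := x.2
    rw [MonoidHom.mem_ker, MonoidHom.prod_apply, Prod.mk_eq_one] at h
    refine ⟨?_, fun hv => congrArg Subtype.val (LinearMap.congr_fun h.1 ⟨v, hv⟩)⟩
    exact (Submodule.Quotient.eq U).1 (LinearMap.congr_fun h.2 (Submodule.Quotient.mk v))
  have hpg : IsPGroup 2 φ.ker := by
    intro x
    refine ⟨1, Subtype.ext (hf (LinearMap.ext fun v => ?_))⟩
    obtain ⟨hd, -⟩ := hker x v
    have h2 := (hker x (f x.1 v - v)).2 hd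
    rw [map_sub] at h2
    rw [pow_one, SubmonoidClass.coe_pow, map_pow, OneMemClass.coe_one, map_one, Module.End.one_apply,
      pow_two, Module.End.mul_apply]
    have htwo : (2 : ZMod 2) = 0 := rfl
    have hneg : ∀ w : V, w + w = 0 := fun w => by rw [← two_smul (ZMod 2) w, htwo, zero_smul]
    calc f x.1 (f x.1 v) = f x.1 v - v + f x.1 v := sub_eq_iff_eq_add.1 h2
      _ = (f x.1 v + f x.1 v) - v := by abel
      _ = -v := by rw [hneg, zero_sub]
      _ = v := by rw [neg_eq_iff_add_eq_zero, hneg]
  haveI : Group.IsNilpotent φ.ker := hpg.isNilpotent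
  have hb := hns φ.ker inferInstance inferInstance
  have hinj := (MonoidHom.ker_eq_bot_iff φ).1 hb
  haveI : Finite (Module.End (ZMod 2) U) := Finite.of_injective _ DFunLike.coe_injective
  haveI : Finite (V ⧸ U) := Quotient.finite _
  haveI : Finite (Module.End (ZMod 2) (V ⧸ U)) := Finite.of_injective _ DFunLike.coe_injective
  have := Nat.card_le_card_of_injective φ hinj
  rw [Nat.card_prod] at this
  omega

theorem card_end (W : Type*) [AddCommGroup W] [Module (ZMod 2) W] [Finite W] :
    Nat.card (Module.End (ZMod 2) W) = 2 ^ (Module.finrank (ZMod 2) W * Module.finrank (ZMod 2) W) := by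
  haveI : Module.Finite (ZMod 2) W := Module.Finite.of_finite
  rw [Module.natCard_eq_pow_finrank (K := ZMod 2), Nat.card_zmod, Module.finrank_linearMap]

/-- The natural module, without the pointwise scalar actions. -/
def Vec4 : Type := Fin 4 → ZMod 2

instance : AddCommGroup Vec4 := inferInstanceAs (AddCommGroup (Fin 4 → ZMod 2))
instance : Module (ZMod 2) Vec4 := inferInstanceAs (Module (ZMod 2) (Fin 4 → ZMod 2))
instance : Fintype Vec4 := inferInstanceAs (Fintype (Fin 4 → ZMod 2))
noncomputable instance : DecidableEq Vec4 := Classical.decEq _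

theorem finrank_vec4 : Module.finrank (ZMod 2) Vec4 = 4 := Module.finrank_fin_fun (ZMod 2)

/-- No subgroup of order 1344 of `GL(4,2)` without a solvable normal subgroup. -/
theorem false_of_card_1344 (H : Subgroup (GL (Fin 4) (ZMod 2))) (hns : NS H) (hc : Nat.card H = 1344) :
    False := by
  classical
  haveI : Fact (Nat.Prime 2) := ⟨Nat.prime_two⟩
  haveI : Fact (Nat.Prime 7) := ⟨by norm_num⟩
  let V := Vec4
  let f : H →* Module.End (ZMod 2) Vec4 :=
    (Matrix.toLinAlgEquiv' : Matrix (Fin 4) (Fin 4) (ZMod 2) ≃ₐ[ZMod 2] Module.End (ZMod 2) (Fin 4 → ZMod 2)).toMonoidHom.comp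
      ((Units.coeHom _).comp H.subtype)
  have hf : Function.Injective f := fun a b h =>
    Subtype.ext (Units.ext (Matrix.toLinAlgEquiv'.injective h))
  letI : MulAction H V :=
    { smul := fun h v => f h v
      one_smul := fun v => by show f 1 v = v; rw [map_one]; rfl
      mul_smul := fun a b v => by show f (a * b) v = f a (f b v); rw [map_mul]; rfl }
  have hV : Nat.card V = 16 := by
    show Nat.card (Fin 4 → ZMod 2) = 16; rw [Nat.card_eq_fintype_card, Fintype.card_fun, ZMod.card, Fintype.card_fin]; norm_num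
  -- a subspace cannot be invariant
  have hno : ∀ U : Submodule (ZMod 2) V, U ≠ ⊥ → U ≠ ⊤ → ¬ ∀ h : H, ∀ u ∈ U, f h u ∈ U := by
    intro U hb ht hinv
    refine hns.false_of_invariant f hf U hinv ?_
    rw [card_end, card_end, hc]
    have h1 := U.finrank_quotient_add_finrank
    rw [finrank_vec4] at h1
    have h2 : 0 < Module.finrank (ZMod 2) U := by
      haveI := Submodule.nontrivial_iff_ne_bot.2 hb
      exact Module.finrank_pos
    have h3 : Module.finrank (ZMod 2) U < 4 := by
      have := Submodule.finrank_lt ht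
      rwa [finrank_vec4] at this
    generalize hu : Module.finrank (ZMod 2) U = u at *
    generalize hq : Module.finrank (ZMod 2) (V ⧸ U) = q at *
    obtain rfl : q = 4 - u := by omega
    have key : ∀ u ∈ List.range 4, 0 < u → 2 ^ (u * u) * 2 ^ ((4 - u) * (4 - u)) < 1344 := by decide
    exact key u (List.mem_range.2 h3) h2
  -- an element of order 7 and its unique nonzero fixed vector
  obtain ⟨y, hy⟩ := exists_prime_orderOf_dvd_card' (G := H) 7 (by rw [hc]; norm_num)
  have hY : IsPGroup 7 (Subgroup.zpowers y) :=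
    IsPGroup.of_card (n := 1) (by rw [Nat.card_zpowers, hy, pow_one])
  have hfix := hY.card_modEq_card_fixedPoints V
  rw [hV] at hfix
  let T : Submodule (ZMod 2) V := LinearMap.ker (f y - 1)
  have hmemT : ∀ v : V, v ∈ T ↔ y • v = v := fun v => by
    rw [LinearMap.mem_ker, LinearMap.sub_apply, Module.End.one_apply, sub_eq_zero]; rfl
  have hTset : (MulAction.fixedPoints (Subgroup.zpowers y) V) = (T : Set V) := by
    ext v
    rw [SetLike.mem_coe, hmemT]
    refine ⟨fun h => h ⟨y, Subgroup.mem_zpowers y⟩, fun h => ?_⟩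
    rintro ⟨g, hg⟩
    obtain ⟨i, rfl⟩ := mem_powers_iff_mem_zpowers.2 hg
    show y ^ i • v = v
    clear hg
    induction i with
    | zero => exact one_smul H v
    | succ i ih => rw [pow_succ, mul_smul, h, ih]
  rw [hTset] at hfix
  have hTcard : Nat.card T = 2 := by
    have h16 : Nat.card T ∣ 2 ^ 4 := by
      rw [show (2:ℕ) ^ 4 = Nat.card V by rw [hV]; norm_num]
      exact AddSubgroup.card_addSubgroup_dvd_card T.toAddSubgroup
    obtain ⟨j, hj, hTj⟩ := (Nat.dvd_prime_pow Nat.prime_two).1 h16
    have hfix' : 16 ≡ Nat.card T [MOD 7] := hfix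
    rw [hTj] at hfix' ⊢
    have hj4 : j ≠ 4 := by
      intro h4
      subst h4
      have hTtop : T = ⊤ := by
        refine SetLike.coe_injective (Set.eq_of_subset_of_ncard_le (Set.subset_univ (T : Set V)) ?_ (Set.toFinite _))
        rw [Submodule.top_coe, Set.ncard_univ, hV, ← Nat.card_coe_set_eq]
        exact le_of_eq hTj.symm
      have : y = 1 := hf (LinearMap.ext fun v => by
        rw [map_one, Module.End.one_apply]
        exact (hmemT v).1 (hTtop ▸ Submodule.mem_top))
      rw [this, orderOf_one] at hy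
      norm_num at hy
    interval_cases j <;> first | rfl | (exact absurd hfix' (by decide)) | exact absurd rfl hj4
  obtain ⟨v₀, hv₀T, hv₀⟩ : ∃ v ∈ T, v ≠ 0 := by
    by_contra hall
    push_neg at hall
    have : T = ⊥ := (Submodule.eq_bot_iff T).2 hall
    rw [this, Nat.card_unique] at hTcard
    norm_num at hTcard
  have huniq : ∀ v ∈ T, v = 0 ∨ v = v₀ := by
    intro v hv
    by_contra hh
    push_neg at hh
    have hsub : ({0, v₀, v} : Finset V) ⊆ (Set.toFinite (T : Set V)).toFinset := by
      intro w hw
      simp only [Finset.mem_insert, Finset.mem_singleton] at hw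
      rw [Set.Finite.mem_toFinset]
      rcases hw with rfl | rfl | rfl
      exacts [T.zero_mem, hv₀T, hv]
    have := Finset.card_le_card hsub
    rw [← Set.ncard_eq_toFinset_card, ← Nat.card_coe_set_eq, Finset.card_insert_of_notMem
      (by simp [Ne.symm hh.1, Ne.symm hv₀]), Finset.card_pair hh.2.symm] at this
    rw [show Nat.card ((T : Set V)) = 2 from hTcard] at this
    exact absurd this (by norm_num)
  -- a fixed vector of a Sylow 2-subgroup
  obtain ⟨S⟩ : Nonempty (Sylow 2 H) := inferInstance
  have hScard : Nat.card (S : Subgroup H) = 64 :=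
    (CfsgLib.SmallSimple.card_sylow_eq S (k := 6) (m := 21) (by rw [hc]; norm_num) (by norm_num)).trans
      (by norm_num)
  obtain ⟨s, hs, hs0⟩ := S.2.exists_fixed_point_of_prime_dvd_card_of_fixed_point (α := V)
    (by rw [hV]; norm_num) (a := 0) (fun g => map_zero (f (g : H)))
  let O := MulAction.orbit H s
  have hOd : O.ncard ∣ 21 := by
    rw [← MulAction.index_stabilizer]
    have hle : (S : Subgroup H) ≤ MulAction.stabilizer H s := fun g hg => hs ⟨g, hg⟩
    have h := Subgroup.index_dvd_of_le hle
    have h2 := (S : Subgroup H).card_mul_index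
    rw [hScard, hc] at h2
    rwa [show (S : Subgroup H).index = 21 by omega] at h
  have hO0 : ∀ v ∈ O, v ≠ 0 := by
    rintro - ⟨h, rfl⟩ e
    refine hs0 ?_
    have h2 : h⁻¹ • (h • s) = h⁻¹ • (0 : V) := congrArg _ e
    rw [inv_smul_smul] at h2
    exact (h2.trans (map_zero (f h⁻¹))).symm
  have hOle : O.ncard ≤ 15 := by
    have hsub : O ⊆ ({0} : Set V)ᶜ := fun v hv => hO0 v hv
    refine (Set.ncard_le_ncard hsub (Set.toFinite _)).trans (le_of_eq ?_)
    rw [Set.ncard_compl, Set.ncard_singleton, hV]
  have hOy : ∀ v ∈ O, y • v ∈ O := by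
    rintro - ⟨h, rfl⟩; exact ⟨y * h, mul_smul y h s⟩
  -- the invariant span
  have hspan : ∀ h : H, ∀ u ∈ Submodule.span (ZMod 2) O, f h u ∈ Submodule.span (ZMod 2) O := by
    intro h u hu
    induction hu using Submodule.span_induction with
    | mem x hx =>
      obtain ⟨k, rfl⟩ := hx
      exact Submodule.subset_span ⟨h * k, mul_smul h k s⟩
    | zero => rw [map_zero]; exact Submodule.zero_mem _
    | add a b _ _ ha hb => rw [map_add]; exact Submodule.add_mem _ ha hb
    | smul c a _ ha => rw [map_smul]; exact Submodule.smul_mem _ c ha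
  have hspan0 : Submodule.span (ZMod 2) O ≠ ⊥ := by
    intro h
    exact hO0 s (MulAction.mem_orbit_self s) (Submodule.span_eq_bot.1 h s (MulAction.mem_orbit_self s))
  haveI : Fintype O := Fintype.ofFinite O
  have hsum : ∀ h : H, f h (∑ v : O, (v : V)) = ∑ v : O, (v : V) := by
    intro h
    rw [map_sum]
    let e : O ≃ O :=
      (MulAction.toPerm h).subtypeEquiv fun v => (MulAction.mem_orbit_symm.trans
        (Iff.trans (by rw [MulAction.toPerm_apply, MulAction.orbit_smul]) MulAction.mem_orbit_symm))
    exact Fintype.sum_equiv e (fun v : O => f h v) (fun v : O => (v : V)) (fun v => rfl)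
  by_cases ht : (∑ v : O, (v : V)) = 0
  · refine hno _ hspan0 (fun htop => ?_) hspan
    -- the orbit lies in a proper subspace
    have hsize : O.ncard = 7 ∨ ∀ v ∈ O, y • v = v := by
      have key : ∀ k ∈ List.range 16, k ∣ 21 → k = 7 ∨ k < 7 := by decide
      rcases key _ (List.mem_range.2 (Nat.lt_succ_of_le hOle)) hOd with h | h
      · exact Or.inl h
      · exact Or.inr fun v hv => fix_of_invariant (by norm_num) hy O (Set.toFinite _) hOy h hv
    rcases hsize with h7 | hall
    · -- one orbit of `y`, killed by the sum of its powers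
      let K : Submodule (ZMod 2) V := LinearMap.ker (∑ i ∈ Finset.range 7, f y ^ i)
      have hKt : v₀ ∉ K := by
        rw [LinearMap.mem_ker, LinearMap.sum_apply, Finset.sum_congr rfl (fun i _ => show (f y ^ i) v₀ = v₀ from ?_)]
        · rw [Finset.sum_const, Finset.card_range]
          intro h
          refine hv₀ ?_
          rw [← Nat.cast_smul_eq_nsmul (ZMod 2), show ((7 : ℕ) : ZMod 2) = 1 from rfl, one_smul] at h
          exact h
        · clear * - hmemT hv₀T
          induction i with
          | zero => rfl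
          | succ i ih => rw [pow_succ', Module.End.mul_apply, ih]; exact (hmemT v₀).1 hv₀T
      refine hKt (Submodule.span_le.2 (fun v hv => ?_) (htop ▸ Submodule.mem_top))
      have hmove : y • v ≠ v := by
        intro e
        have he : ∀ u ∈ O, y • u = u → u = v₀ := fun u hu hu' =>
          ((huniq u ((hmemT u).2 hu')).resolve_left (hO0 u hu))
        have hcompl : ∀ u ∈ O \ {v}, y • u = u := fun u hu => by
          refine fix_of_invariant (by norm_num : Nat.Prime 7) hy (O \ {v}) (Set.toFinite _) ?_ ?_ hu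
          · rintro w ⟨hw, hwv⟩
            exact ⟨hOy w hw, fun e' => hwv (smul_left_cancel y (e'.trans e.symm))⟩
          · rw [Set.ncard_diff_singleton_of_mem hv, h7]; norm_num
        obtain ⟨u, hu, huv⟩ : ∃ u ∈ O, u ≠ v := Set.exists_ne_of_one_lt_ncard (by omega) v
        exact huv ((he u hu (hcompl u ⟨hu, huv⟩)).trans (he v hv e).symm)
      -- the powers of `y` on `v` list the orbit
      have hinj : Function.Injective (fun i : Fin 7 => (⟨(y ^ (i : ℕ)) • v, by
          obtain ⟨k, rfl⟩ := hv; exact ⟨y ^ (i : ℕ) * k, mul_smul _ k s⟩⟩ : O)) := by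
        intro i j e
        have e' : (y ^ (i : ℕ)) • v = (y ^ (j : ℕ)) • v := congrArg Subtype.val e
        by_contra hij
        apply hmove
        have hst : (y ^ (i : ℕ))⁻¹ * y ^ (j : ℕ) ∈ MulAction.stabilizer H v := by
          rw [MulAction.mem_stabilizer_iff, mul_smul, ← e', inv_smul_smul]
        have hz : (y ^ (i : ℕ))⁻¹ * y ^ (j : ℕ) ∈ Subgroup.zpowers y :=
          mul_mem (inv_mem (Subgroup.npow_mem_zpowers y _)) (Subgroup.npow_mem_zpowers y _)
        have hne : (⟨_, hz⟩ : Subgroup.zpowers y) ≠ 1 := fun h1 => hij (Fin.ext (by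
          have h2 : y ^ (i : ℕ) = y ^ (j : ℕ) := inv_mul_eq_one.1 (congrArg Subtype.val h1)
          rw [pow_inj_mod, hy, Nat.mod_eq_of_lt i.2, Nat.mod_eq_of_lt j.2] at h2
          exact h2))
        have hall := mem_zpowers_of_prime_card (p := 7) (by rw [Nat.card_zpowers, hy]) hne
          (g' := (⟨y, Subgroup.mem_zpowers y⟩ : Subgroup.zpowers y))
        obtain ⟨r, hr⟩ := Subgroup.mem_zpowers_iff.1 hall
        have hr' : ((y ^ (i : ℕ))⁻¹ * y ^ (j : ℕ)) ^ r = y := congrArg Subtype.val hr
        exact MulAction.mem_stabilizer_iff.1 (hr' ▸ Subgroup.zpow_mem _ hst r)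
      have hbij := (Fintype.bijective_iff_injective_and_card _).2 ⟨hinj, by
        rw [Fintype.card_fin, ← Nat.card_eq_fintype_card, Nat.card_coe_set_eq, h7]⟩
      have hsum7 := Fintype.sum_bijective _ hbij (fun i : Fin 7 => (y ^ (i : ℕ)) • v) (fun w : O => (w : V))
        (fun i => rfl)
      show (∑ i ∈ Finset.range 7, f y ^ i) v = 0
      rw [LinearMap.sum_apply, ← Fin.sum_univ_eq_sum_range (fun i => (f y ^ i) v)]
      refine Eq.trans (Finset.sum_congr rfl fun i _ => ?_) (hsum7.trans ht)
      rw [← map_pow]; rfl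
    · have hle : Submodule.span (ZMod 2) O ≤ T := Submodule.span_le.2 fun v hv => (hmemT v).2 (hall v hv)
      have : T = ⊤ := top_le_iff.1 (htop ▸ hle)
      rw [this, Nat.card_congr Submodule.topEquiv.toEquiv, hV] at hTcard
      norm_num at hTcard
  · refine hno (Submodule.span (ZMod 2) {∑ v : O, (v : V)}) ?_ ?_ ?_
    · rwa [Ne, Submodule.span_singleton_eq_bot]
    · intro htop
      have h1 := finrank_span_singleton (K := ZMod 2) ht
      rw [htop, finrank_top, finrank_vec4] at h1
      norm_num at h1
    · intro h u hu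
      obtain ⟨c, rfl⟩ := Submodule.mem_span_singleton.1 hu
      rw [map_smul, hsum]
      exact hu

end CfsgLib.RadFree
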