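import Cfsg.Agent.RadFree.Degree
import Cfsg.Agent.RadFree.Linear
import Cfsg.Agent.InvChar.OneSixtyEight
import Cfsg.Agent.Classical.SmallPSL
import Cfsg.Agent.S0256

/-!
Groups of even permutations of eight points without a nontrivial solvable normal subgroup.
-/

set_option autoImplicit false
set_option linter.unusedSectionVars false

namespace CfsgLib.RadFree

open Equiv Subgroup MulAction

/-- The list of possible groups. -/
def Listed (H : Type*) [Group H] : Prop :=
  (∃ n : ℕ, 5 ≤ n ∧ n ≤ 8 ∧ Nonempty (H ≃* alternatingGroup (Fin n))) ∨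
  Nonempty (H ≃* Equiv.Perm (Fin 5)) ∨ Nonempty (H ≃* Equiv.Perm (Fin 6)) ∨
  Nonempty (H ≃* GL (Fin 3) (ZMod 2))

theorem iso_gl_three {G : Type*} [Group G] [Finite G] [IsSimpleGroup G] (h : Nat.card G = 168) :
    Nonempty (G ≃* GL (Fin 3) (ZMod 2)) := by
  haveI : Fact (Nat.Prime 7) := ⟨by norm_num⟩
  haveI : Fact (Nat.Prime 2) := ⟨Nat.prime_two⟩
  obtain ⟨e⟩ := CfsgLib.InvChar.iso_psl_two_seven h (F := ZMod 7) (ZMod.card 7)
  obtain ⟨a⟩ := CfsgLib.Linear.Small.nonempty_psl_two_seven (F := ZMod 7) (K := ZMod 2) (ZMod.card 7) (ZMod.card 2)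
  obtain ⟨b⟩ := gl_equiv_psl 3
  exact ⟨(e.trans a).trans b.symm⟩

theorem Listed.of_mulEquiv {H K : Type*} [Group H] [Group K] (h : Listed K) (e : H ≃* K) : Listed H := by
  rcases h with ⟨n, h1, h2, ⟨f⟩⟩ | ⟨⟨f⟩⟩ | ⟨⟨f⟩⟩ | ⟨⟨f⟩⟩
  · exact Or.inl ⟨n, h1, h2, ⟨e.trans f⟩⟩
  · exact Or.inr (Or.inl ⟨e.trans f⟩)
  · exact Or.inr (Or.inr (Or.inl ⟨e.trans f⟩))
  · exact Or.inr (Or.inr (Or.inr ⟨e.trans f⟩))

theorem listed_of_even_eight (H : Subgroup (Perm (Fin 8))) (heven : H ≤ alternatingGroup (Fin 8))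
    [Nontrivial H] (hns : NS H) (hne : Nat.card H ≠ 1344) : Listed H := by
  classical
  obtain ⟨p, hp, hp4, g, hg⟩ : ∃ p : ℕ, p.Prime ∧ 4 < p ∧ ∃ g : H, orderOf g = p := by
    by_contra hno
    push_neg at hno
    have hd : Nat.card H ∣ 2 ^ 7 * 3 ^ 2 := by
      have h := Subgroup.card_subgroup_dvd_card H
      rw [Nat.card_perm, Nat.card_fin, show Nat.factorial 8 = (2 ^ 7 * 3 ^ 2) * 35 by norm_num [Nat.factorial]] at h
      refine (Nat.Coprime.dvd_mul_right ?_).1 h
      rw [show (35 : ℕ) = 5 * 7 from rfl, Nat.coprime_mul_iff_right]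
      constructor <;>
      · rw [Nat.coprime_comm, Nat.Prime.coprime_iff_not_dvd (by norm_num)]
        intro hdv
        haveI : Fact (Nat.Prime 5) := ⟨by norm_num⟩
        haveI : Fact (Nat.Prime 7) := ⟨by norm_num⟩
        obtain ⟨g, hg⟩ := exists_prime_orderOf_dvd_card' (G := H) _ hdv
        exact hno _ (by norm_num) (by norm_num) g hg
    exact false_of_isSolvable_two hns 2 3 7 2 Nat.prime_two Nat.prime_three hd
  obtain ⟨a, ha⟩ : ∃ a : Fin 8, g • a ≠ a := by
    by_contra hall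
    push_neg at hall
    have : g = 1 := Subtype.ext (Equiv.ext hall)
    rw [this, orderOf_one] at hg
    omega
  set O := MulAction.orbit H a with hO
  have hOp : p ≤ O.ncard := by
    by_contra hlt
    refine ha (fix_of_invariant hp hg O (Set.toFinite _) ?_ (by omega) (MulAction.mem_orbit_self a))
    rintro - ⟨k, rfl⟩
    exact ⟨g * k, mul_smul g k a⟩
  have hOle : O.ncard ≤ 8 := by
    refine le_trans (Set.ncard_le_ncard (Set.subset_univ O) (Set.toFinite _)) (le_of_eq ?_)
    rw [Set.ncard_univ, Nat.card_fin]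
  -- the action on the long orbit
  have hinvO : ∀ (h : H) (x : Fin 8), (h : Perm (Fin 8)) x ∈ O ↔ x ∈ O := by
    intro h x
    constructor
    · rintro ⟨k, hk⟩
      exact ⟨h⁻¹ * k, by show (h⁻¹ * k) • a = x; rw [mul_smul]; exact inv_smul_eq_iff.2 hk⟩
    · rintro ⟨k, rfl⟩
      exact ⟨h * k, mul_smul h k a⟩
  let ψ : H →* Perm O :=
    { toFun := fun h => (h : Perm (Fin 8)).subtypePerm (hinvO h)
      map_one' := Equiv.ext fun x => rfl
      map_mul' := fun x y => Equiv.ext fun z => rfl }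
  have hψ : Function.Injective ψ := by
    rw [← MonoidHom.ker_eq_bot_iff]
    refine hns ψ.ker inferInstance ?_
    have hfix : ∀ (k : ψ.ker) (x : Fin 8), x ∈ O → (k.1 : Perm (Fin 8)) x = x := fun k x hx =>
      congrArg Subtype.val (Equiv.congr_fun k.2 ⟨x, hx⟩)
    let χ : ψ.ker →* Perm {x : Fin 8 // x ∉ O} :=
      { toFun := fun k => (k.1 : Perm (Fin 8)).subtypePerm (fun x => not_congr (hinvO k.1 x))
        map_one' := Equiv.ext fun x => rfl
        map_mul' := fun x y => Equiv.ext fun z => rfl }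
    have hχ : Function.Injective χ := by
      intro k k' e
      refine Subtype.ext (Subtype.ext (Equiv.ext fun x => ?_))
      by_cases hx : x ∈ O
      · rw [hfix k x hx, hfix k' x hx]
      · exact congrArg Subtype.val (Equiv.congr_fun e ⟨x, hx⟩)
    have hc : Nat.card {x : Fin 8 // x ∉ O} ≤ 3 := by
      show Nat.card (↥(Oᶜ : Set (Fin 8))) ≤ 3
      rw [Nat.card_coe_set_eq, Set.ncard_compl, Nat.card_fin]
      omega
    have hdvd : Nat.card (Perm {x : Fin 8 // x ∉ O}) ∣ 2 ^ 1 * 3 ^ 1 := by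
      rw [Nat.card_perm]
      exact Nat.factorial_dvd_factorial hc
    exact isSolvable_of_dvd_two 2 3 1 1 Nat.prime_two Nat.prime_three
      ((Subgroup.card_dvd_of_injective χ hχ).trans hdvd)
  haveI : Fintype O := Fintype.ofFinite O
  set m := O.ncard with hm
  let e : O ≃ Fin m := Finite.equivFinOfCardEq (Nat.card_coe_set_eq O)
  let f : H →* Perm (Fin m) := e.permCongrHom.toMonoidHom.comp ψ
  have hf : Function.Injective f := e.permCongrHom.injective.comp hψ
  have iso : H ≃* f.range := MonoidHom.ofInjective hf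
  haveI : Nontrivial f.range := iso.toEquiv.symm.nontrivial
  have hnsI : NS f.range := hns.of_mulEquiv iso
  have htI : IsPretransitive f.range (Fin m) := by
    constructor
    intro x y
    obtain ⟨x', rfl⟩ := e.surjective x
    obtain ⟨y', rfl⟩ := e.surjective y
    obtain ⟨k, hk⟩ := x'.2
    obtain ⟨l, hl⟩ := y'.2
    refine ⟨⟨f (l * k⁻¹), ⟨_, rfl⟩⟩, ?_⟩
    show e (ψ (l * k⁻¹) (e.symm (e x'))) = e y'
    rw [Equiv.symm_apply_apply]
    refine congrArg e (Subtype.ext ?_)
    show (l * k⁻¹) • (x' : Fin 8) = y'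
    have hk' : k • a = (x' : Fin 8) := hk
    rw [← hk', ← mul_smul, inv_mul_cancel_right]
    exact hl
  have hevenI : 7 ≤ m → f.range ≤ alternatingGroup (Fin m) := by
    rintro h7 - ⟨h, rfl⟩
    rw [Perm.mem_alternatingGroup]
    show Perm.sign (e.permCongr (ψ h)) = 1
    rw [Perm.sign_permCongr]
    refine Eq.trans ?_ ((Perm.sign_subtypePerm (h : Perm (Fin 8)) (hinvO h) fun x hx => ?_).trans
      (Perm.mem_alternatingGroup.1 (heven h.2)))
    · congr 1 <;> first | rfl | exact Subsingleton.elim _ _ | (congr 1 <;> exact Subsingleton.elim _ _)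
    by_contra hxO
    have hxO' : (h : Perm (Fin 8)) x ∉ O := fun hh => hxO ((hinvO h x).1 hh)
    have h1 : Oᶜ.ncard ≤ 1 := by rw [Set.ncard_compl, Nat.card_fin]; omega
    exact hx ((Set.ncard_le_one (Set.toFinite _)).1 h1 _ hxO' _ hxO)
  have hcardI : Nat.card H = Nat.card f.range := Nat.card_congr iso.toEquiv
  refine Listed.of_mulEquiv ?_ iso
  clear_value f
  have h5 : 5 ≤ m := by omega
  clear_value e
  generalize hgen : f.range = I at *
  clear hgen f hf iso e ψ hψ
  clear_value m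
  rcases (by omega : m = 5 ∨ m = 6 ∨ m = 7 ∨ m = 8) with rfl | rfl | rfl | rfl
  · rcases degree_five I hnsI with h | h
    · exact Or.inl ⟨5, le_rfl, by norm_num, h⟩
    · exact Or.inr (Or.inl h)
  · rcases degree_six I hnsI htI with h | h | h | h
    · exact Or.inl ⟨5, le_rfl, by norm_num, h⟩
    · exact Or.inr (Or.inl h)
    · exact Or.inl ⟨6, by norm_num, by norm_num, h⟩
    · exact Or.inr (Or.inr (Or.inl h))
  · rcases degree_seven I hnsI htI (hevenI le_rfl) with h | ⟨h, hs⟩
    · exact Or.inl ⟨7, by norm_num, by norm_num, h⟩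
    · exact Or.inr (Or.inr (Or.inr (iso_gl_three h)))
  · rcases degree_eight I hnsI htI (hevenI (by norm_num)) with h | ⟨h, hs⟩ | h
    · exact Or.inl ⟨8, by norm_num, le_rfl, h⟩
    · exact Or.inr (Or.inr (Or.inr (iso_gl_three h)))
    · exact absurd (hcardI.trans h) hne

theorem listed_gl_four (H : Subgroup (GL (Fin 4) (ZMod 2))) (hH : H ≠ ⊥) (hns : NS H) : Listed H := by
  classical
  haveI : Fact (Nat.Prime 2) := ⟨Nat.prime_two⟩
  obtain ⟨b⟩ := gl_equiv_psl 4
  obtain ⟨a⟩ := Cfsg.Agent.S0256.result (F := ZMod 2) (ZMod.card 2)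
  let φ : GL (Fin 4) (ZMod 2) →* Perm (Fin 8) :=
    (alternatingGroup (Fin 8)).subtype.comp (b.trans a).toMonoidHom
  have hφ : Function.Injective φ := (alternatingGroup (Fin 8)).subtype_injective.comp (b.trans a).injective
  let iso : H ≃* H.map φ := H.equivMapOfInjective φ hφ
  haveI : Nontrivial H := (Subgroup.nontrivial_iff_ne_bot H).2 hH
  haveI : Nontrivial (H.map φ) := iso.toEquiv.symm.nontrivial
  refine Listed.of_mulEquiv (listed_of_even_eight (H.map φ) ?_ (hns.of_mulEquiv iso) ?_) iso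
  · rintro - ⟨x, -, rfl⟩
    exact ((b.trans a) x).2
  · intro h
    exact false_of_card_1344 H hns ((Nat.card_congr iso.toEquiv).trans h)

end CfsgLib.RadFree
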