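import Mathlib.GroupTheory.GroupAction.Jordan
import Mathlib.GroupTheory.Perm.Cycle.Type
import Mathlib.GroupTheory.SpecificGroups.Alternating.Simple
import Cfsg.Agent.RadFree.Basic
import Cfsg.Agent.S0494
import Cfsg.Agent.FGSB.Jordan

/-!
Transitive permutation groups of degree 5, 6, 7, 8 (even for 7 and 8) without a nontrivial solvable normal
subgroup.
-/

set_option autoImplicit false
set_option linter.unusedSectionVars false

namespace CfsgLib.RadFree

open Equiv Subgroup MulAction
open scoped Pointwise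

variable {m : ℕ}

/-- A subgroup of small index contains the alternating group. -/
theorem alternating_le_of_index (hm : 5 ≤ m) (I : Subgroup (Perm (Fin m)))
    (hI : 2 * I.index.factorial < m.factorial) : alternatingGroup (Fin m) ≤ I := by
  by_contra hle
  haveI : IsSimpleGroup (alternatingGroup (Fin m)) := alternatingGroup.isSimpleGroup (by simpa using hm)
  haveI : Nontrivial (Fin m) := Fin.nontrivial_iff_two_le.2 (by omega)
  have hne : I.subgroupOf (alternatingGroup (Fin m)) ≠ ⊤ := fun h => hle (subgroupOf_eq_top.1 h)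
  have h1 := Nat.le_of_dvd (Nat.factorial_pos _) (CfsgLib.SmallSimple.card_dvd_factorial _ hne)
  have h2 : (I.subgroupOf (alternatingGroup (Fin m))).index ≤ I.index := by
    show I.relIndex _ ≤ _
    exact (Subgroup.relIndex_le_of_le_right le_top (fun h => Subgroup.index_ne_zero_of_finite
      ((relIndex_top_right I).symm.trans h))).trans_eq (relIndex_top_right I)
  have h3 := h1.trans (Nat.factorial_le h2)
  have h4 := two_mul_nat_card_alternatingGroup (α := Fin m)
  rw [Nat.card_perm, Nat.card_fin] at h4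
  omega

theorem eq_alternating_or_top (hm : 5 ≤ m) (I : Subgroup (Perm (Fin m)))
    (hI : 2 * I.index.factorial < m.factorial) :
    (I = alternatingGroup (Fin m) ∨ I = ⊤) := by
  haveI : Nontrivial (Fin m) := Fin.nontrivial_iff_two_le.2 (by omega)
  have hle := alternating_le_of_index hm I hI
  have h := Subgroup.index_dvd_of_le hle
  rw [alternatingGroup.index_eq_two] at h
  rcases (Nat.dvd_prime Nat.prime_two).1 h with h | h
  · exact Or.inr (Subgroup.index_eq_one.1 h)
  · exact Or.inl (Equiv.Perm.eq_alternatingGroup_of_index_eq_two h)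

theorem iso_sym_five (I : Subgroup (Perm (Fin 6))) (hI : Nat.card I = 120) :
    Nonempty (I ≃* Perm (Fin 5)) := by
  classical
  have hidx : I.index = 6 := by
    have h := I.card_mul_index
    rw [hI, Nat.card_perm, Nat.card_fin] at h
    norm_num [Nat.factorial] at h; omega
  let e : Perm (Fin 6) ⧸ I ≃ Fin 6 := Finite.equivFinOfCardEq (by rw [← Subgroup.index_eq_card, hidx])
  let φ : Perm (Fin 6) →* Perm (Fin 6) :=
    e.permCongrHom.toMonoidHom.comp (MulAction.toPermHom (Perm (Fin 6)) (Perm (Fin 6) ⧸ I))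
  have hinj : Function.Injective φ := by
    refine e.permCongrHom.injective.comp ((MonoidHom.ker_eq_bot_iff _).1 ?_)
    rw [← Subgroup.normalCore_eq_ker]
    rcases eq_or_ne I.normalCore ⊥ with h | h
    · exact h
    · exfalso
      have h := Equiv.Perm.alternatingGroup_le_of_normal (α := Fin 6) (by simp) ((nontrivial_iff_ne_bot _).2 h)
      have h1 := Subgroup.card_dvd_of_le (h.trans (Subgroup.normalCore_le I))
      have h2 := two_mul_nat_card_alternatingGroup (α := Fin 6)
      rw [Nat.card_perm, Nat.card_fin] at h2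
      simp only [Nat.factorial] at h2
      rw [hI, show Nat.card (alternatingGroup (Fin 6)) = 360 by omega] at h1
      norm_num at h1
  set a : Fin 6 := e (1 : Perm (Fin 6)) with ha
  let S := MulAction.stabilizer (Perm (Fin 6)) a
  have hmap : I.map φ = S := by
    refine Subgroup.eq_of_le_of_card_ge ?_ ?_
    · rintro - ⟨x, hx, rfl⟩
      show e.permCongr (MulAction.toPerm x) a = a
      rw [Equiv.permCongr_apply, ha, Equiv.symm_apply_apply, MulAction.toPerm_apply]
      exact congrArg e (by rw [MulAction.Quotient.smul_mk]; exact QuotientGroup.eq.2 (by simpa using I.inv_mem hx))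
    · rw [Subgroup.card_map_of_injective hinj, hI]
      have h := S.card_mul_index
      rw [MulAction.index_stabilizer_of_transitive, Nat.card_perm, Nat.card_fin] at h
      simp only [Nat.factorial] at h; omega
  obtain ⟨c⟩ : Nonempty (Fin 5 ≃ {y : Fin 6 // y ≠ a}) :=
    ⟨(Fintype.equivFinOfCardEq (by rw [Fintype.card_subtype_compl, Fintype.card_subtype_eq, Fintype.card_fin])).symm⟩
  let ψ : Perm (Fin 5) →* Perm (Fin 6) :=
    (Perm.ofSubtype (p := fun y : Fin 6 => y ≠ a)).comp c.permCongrHom.toMonoidHom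
  have hψi : Function.Injective ψ := Perm.ofSubtype_injective.comp c.permCongrHom.injective
  have hψ : ψ.range = S := by
    refine Subgroup.eq_of_le_of_card_ge ?_ ?_
    · rintro - ⟨x, rfl⟩
      exact Perm.ofSubtype_apply_of_not_mem _ (fun h => h rfl)
    · rw [← Nat.card_congr (MonoidHom.ofInjective hψi).toEquiv, Nat.card_perm, Nat.card_fin, ← hmap,
        Subgroup.card_map_of_injective hinj, hI]
      norm_num [Nat.factorial]
  exact ⟨(I.equivMapOfInjective φ hinj).trans ((MulEquiv.subgroupCongr (hmap.trans hψ.symm)).trans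
    (MonoidHom.ofInjective hψi).symm)⟩

theorem false_of_isSolvable_two {I : Type*} [Group I] [Finite I] [Nontrivial I] (h : NS I) (p q a b : ℕ)
    (hp : p.Prime) (hq : q.Prime) (hd : Nat.card I ∣ p ^ a * q ^ b) : False :=
  h.not_isSolvable (isSolvable_of_dvd_two p q a b hp hq hd)

theorem degree_five (I : Subgroup (Perm (Fin 5))) [Nontrivial I] (hns : NS I) :
    Nonempty (I ≃* alternatingGroup (Fin 5)) ∨ Nonempty (I ≃* Perm (Fin 5)) := by
  have hd : Nat.card I ∣ 120 := by
    have h := Subgroup.card_subgroup_dvd_card I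
    rwa [Nat.card_perm, Nat.card_fin, show Nat.factorial 5 = 120 by norm_num [Nat.factorial]] at h
  rcases eq_or_ne (Nat.card I) 60 with h60 | h60
  · haveI := hns.isSimpleGroup (by rw [h60]; unfold OrdTest; decide +kernel)
    exact Or.inl (Cfsg.Agent.S0494.result h60)
  rcases eq_or_ne (Nat.card I) 120 with h120 | h120
  · have : I = ⊤ := Subgroup.eq_top_of_card_eq I (by rw [h120, Nat.card_perm, Nat.card_fin]; rfl)
    exact Or.inr ⟨(MulEquiv.subgroupCongr this).trans Subgroup.topEquiv⟩
  exfalso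
  have key : ∀ d ∈ List.range 121, d ∣ 120 → d ≠ 60 → d ≠ 120 → d ∣ 30 ∨ d ∣ 2 ^ 3 * 3 ^ 1 ∨ d ∣ 2 ^ 3 * 5 ^ 1 := by
    decide +kernel
  rcases key _ (List.mem_range.2 (Nat.lt_succ_of_le (Nat.le_of_dvd (by norm_num) hd))) hd h60 h120 with h | h | h
  · exact hns.false_of_test 30 (by norm_num) h (by unfold OrdTest; decide +kernel)
  · exact false_of_isSolvable_two hns 2 3 3 1 Nat.prime_two Nat.prime_three h
  · exact false_of_isSolvable_two hns 2 5 3 1 Nat.prime_two (by norm_num) h

theorem degree_six (I : Subgroup (Perm (Fin 6))) [Nontrivial I] (hns : NS I)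
    (ht : IsPretransitive I (Fin 6)) :
    Nonempty (I ≃* alternatingGroup (Fin 5)) ∨ Nonempty (I ≃* Perm (Fin 5)) ∨
      Nonempty (I ≃* alternatingGroup (Fin 6)) ∨ Nonempty (I ≃* Perm (Fin 6)) := by
  have hfac : Nat.factorial 6 = 720 := by norm_num [Nat.factorial]
  have hd : Nat.card I ∣ 720 := by
    have h := Subgroup.card_subgroup_dvd_card I
    rwa [Nat.card_perm, Nat.card_fin, hfac] at h
  have h6 : 6 ∣ Nat.card I := by
    haveI := ht
    have h := (MulAction.stabilizer I (0 : Fin 6)).index_dvd_card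
    rwa [MulAction.index_stabilizer_of_transitive, Nat.card_fin] at h
  rcases eq_or_ne (Nat.card I) 60 with h60 | h60
  · haveI := hns.isSimpleGroup (by rw [h60]; unfold OrdTest; decide +kernel)
    exact Or.inl (Cfsg.Agent.S0494.result h60)
  rcases eq_or_ne (Nat.card I) 120 with h120 | h120
  · exact Or.inr (Or.inl (iso_sym_five I h120))
  have key : ∀ d ∈ List.range 721, d ∣ 720 → 6 ∣ d → d ≠ 60 → d ≠ 120 →
      d ∣ 90 ∨ d ∣ 2 ^ 4 * 3 ^ 2 ∨ 180 ≤ d := by decide +kernel
  rcases key _ (List.mem_range.2 (Nat.lt_succ_of_le (Nat.le_of_dvd (by norm_num) hd))) hd h6 h60 h120 with h | h | h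
  · exact (hns.false_of_test 90 (by norm_num) h (by unfold OrdTest; decide +kernel)).elim
  · exact (false_of_isSolvable_two hns 2 3 4 2 Nat.prime_two Nat.prime_three h).elim
  have hidx : I.index ≤ 4 := by
    have h1 := I.card_mul_index
    rw [Nat.card_perm, Nat.card_fin, hfac] at h1
    have h2 := Nat.mul_le_mul_right I.index h
    omega
  have hlt : 2 * I.index.factorial < Nat.factorial 6 := by
    have := Nat.factorial_le hidx
    rw [show Nat.factorial 4 = 24 by norm_num [Nat.factorial]] at this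
    omega
  rcases eq_alternating_or_top (by norm_num) I hlt with e | e
  · exact Or.inr (Or.inr (Or.inl ⟨MulEquiv.subgroupCongr e⟩))
  · exact Or.inr (Or.inr (Or.inr ⟨(MulEquiv.subgroupCongr e).trans Subgroup.topEquiv⟩))

/-- The standard 7-cycle. -/
def cyc7 (m : ℕ) : Perm (Fin m) := List.formPerm ((List.finRange m).take 7)

/-- What is used of the standard 7-cycle. -/
def CycFacts (m : ℕ) : Prop :=
  (cyc7 m).cycleType = {7} ∧ ∀ z : Fin m, (z : ℕ) = 0 →
    (∀ x : Fin m, (x : ℕ) < 7 → ((cyc7 m) ^ (x : ℕ)) z = x) ∧ cyc7 m z ≠ z ∧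
    (∀ y : Fin m, cyc7 m y ≠ y → ∃ i : Fin 7, ((cyc7 m) ^ (i : ℕ)) z = y) ∧
    ∃ a b c d e f : Fin m,
      Equiv.swap a b * Equiv.swap c d * Equiv.swap e f * cyc7 m =
        (cyc7 m)⁻¹ * (Equiv.swap a b * Equiv.swap c d * Equiv.swap e f) ∧
      (Equiv.swap a b * Equiv.swap c d * Equiv.swap e f) z = z ∧
      Perm.sign (Equiv.swap a b * Equiv.swap c d * Equiv.swap e f) = -1 ∧ Perm.sign (cyc7 m) = 1

theorem cycFacts_seven : CycFacts 7 := by
  refine ⟨by decide +kernel, fun z hz => ?_⟩
  obtain rfl : z = 0 := Fin.ext hz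
  exact ⟨by decide +kernel, by decide +kernel, by decide +kernel, 1, 6, 2, 5, 3, 4, by decide +kernel,
    by decide +kernel, by decide +kernel, by decide +kernel⟩

theorem cycFacts_eight : CycFacts 8 := by
  refine ⟨by decide +kernel, fun z hz => ?_⟩
  obtain rfl : z = 0 := Fin.ext hz
  exact ⟨by decide +kernel, by decide +kernel, by decide +kernel, 1, 6, 2, 5, 3, 4, by decide +kernel,
    by decide +kernel, by decide +kernel, by decide +kernel⟩

/-- Only powers of a 7-cycle commute with it inside the even permutations, and none inverts it. -/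
theorem seven_cycle {m : ℕ} (hm : m = 7 ∨ m = 8) (c g : Perm (Fin m)) (hc : orderOf c = 7)
    (hg : Perm.sign g = 1) : (g * c = c * g → g ∈ zpowers c) ∧ g * c ≠ c⁻¹ * g := by
  haveI := Fact.mk (show Nat.Prime 7 by norm_num)
  classical
  obtain ⟨r, hr⟩ := Perm.cycleType_prime_order (σ := c) (by rw [hc]; norm_num)
  rw [hc] at hr
  have hr0 : r = 0 := by
    have h1 := c.sum_cycleType
    have h2 := Finset.card_le_univ c.support
    rw [hr, Multiset.sum_replicate, smul_eq_mul] at h1
    rw [Fintype.card_fin] at h2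
    omega
  subst hr0
  let c₀ : Perm (Fin m) := cyc7 m
  have hfacts : CycFacts m := by rcases hm with rfl | rfl; exacts [cycFacts_seven, cycFacts_eight]
  obtain ⟨hc₀, hfacts⟩ := hfacts
  obtain ⟨f0, f1', f2', A, B, C, D, E, F, g1, g2, g3, g4⟩ := hfacts ⟨0, by omega⟩ rfl
  obtain ⟨t, ht⟩ := isConj_iff.1 (Perm.isConj_of_cycleType_eq (σ := c) (τ := c₀) (by rw [hr, hc₀]; rfl))
  have hg' : Perm.sign (t * g * t⁻¹) = 1 := by rw [map_mul, map_mul, hg, map_inv]; simp
  -- both claims for the standard cycle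
  have std : ∀ g : Perm (Fin m), Perm.sign g = 1 → (g * c₀ = c₀ * g → g ∈ zpowers c₀) ∧ g * c₀ ≠ c₀⁻¹ * g := by
    intro g hg
    have hit : ∀ (d : Perm (Fin m)), g * c₀ = d * g → ∀ (i : ℕ) x, g ((c₀ ^ i) x) = (d ^ i) (g x) := by
      intro d hd i x
      have h : SemiconjBy g c₀ d := hd
      exact Equiv.congr_fun (h.pow_right i).eq x
    have hdet : ∀ d, (g * c₀ = d * g) → ∀ h : Perm (Fin m), (h * c₀ = d * h) →
        h ⟨0, by omega⟩ = g ⟨0, by omega⟩ → h = g := by
      intro d hd h hh h0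
      have hhit : ∀ (i : ℕ) x, h ((c₀ ^ i) x) = (d ^ i) (h x) := fun i x =>
        Equiv.congr_fun (SemiconjBy.pow_right (show SemiconjBy h c₀ d from hh) i).eq x
      have hcover : ∀ x : Fin m, (x : ℕ) < 7 → (c₀ ^ (x : ℕ)) ⟨0, by omega⟩ = x := f0
      have hagree : ∀ x : Fin m, (x : ℕ) < 7 → h x = g x := by
        intro x hx
        rw [← hcover x hx, hit d hd, hhit, h0]
      refine Equiv.ext fun x => ?_
      by_cases hx : (x : ℕ) < 7
      · exact hagree x hx
      by_contra hne
      obtain ⟨y, hy⟩ : ∃ y, g y = h x := g.surjective _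
      by_cases hy7 : (y : ℕ) < 7
      · rw [← hagree y hy7] at hy
        exact hx ((h.injective hy) ▸ hy7)
      · have : y = x := Fin.ext (by omega)
        exact hne (this ▸ hy.symm)
    constructor
    · intro hgc
      have hfix : ∀ x : Fin m, c₀ x = x → c₀ (g x) = g x := fun x hx => by
        have := hit c₀ hgc 1 x
        rw [pow_one, hx] at this
        exact this.symm
      have hmove : c₀ ⟨0, by omega⟩ ≠ ⟨0, by omega⟩ := f1'
      have h1 : c₀ (g ⟨0, by omega⟩) ≠ g ⟨0, by omega⟩ := fun e => hmove (g.injective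
        ((Equiv.congr_fun hgc ⟨0, by omega⟩).trans e))
      have h2 : ∀ y : Fin m, c₀ y ≠ y → ∃ i : Fin 7, (c₀ ^ (i : ℕ)) ⟨0, by omega⟩ = y := f2'
      obtain ⟨i, hi⟩ := h2 _ h1
      rw [← hdet c₀ hgc (c₀ ^ (i : ℕ)) ((Commute.pow_self c₀ i).eq) hi]
      exact Subgroup.npow_mem_zpowers c₀ _
    · intro hgc
      have h1 : c₀ (g ⟨0, by omega⟩) ≠ g ⟨0, by omega⟩ := by
        intro e
        have e' : c₀⁻¹ (g ⟨0, by omega⟩) = g ⟨0, by omega⟩ := Perm.inv_eq_iff_eq.2 e.symm
        have hmove : c₀ ⟨0, by omega⟩ ≠ ⟨0, by omega⟩ := f1'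
        exact hmove (g.injective ((Equiv.congr_fun hgc ⟨0, by omega⟩).trans e'))
      have h2 : ∀ y : Fin m, c₀ y ≠ y → ∃ h : Fin 7, ∃ u : Perm (Fin m),
          u * c₀ = c₀⁻¹ * u ∧ u ⟨0, by omega⟩ = y ∧ Perm.sign u = -1 ∧ (h : ℕ) = 0 := by
        intro y hy
        let rev : Perm (Fin m) := Equiv.swap A B * Equiv.swap C D * Equiv.swap E F
        obtain ⟨f1, f2, f3, f4, f5⟩ : rev * c₀ = c₀⁻¹ * rev ∧ rev ⟨0, by omega⟩ = ⟨0, by omega⟩ ∧
            Perm.sign rev = -1 ∧ Perm.sign c₀ = 1 ∧
            ∀ y : Fin m, c₀ y ≠ y → ∃ i : Fin 7, (c₀ ^ (i : ℕ)) ⟨0, by omega⟩ = y := ⟨g1, g2, g3, g4, f2'⟩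
        obtain ⟨i, hi⟩ := f5 y hy
        refine ⟨0, c₀ ^ (i : ℕ) * rev, ?_, ?_, ?_, rfl⟩
        · rw [mul_assoc, f1, ← mul_assoc, ((Commute.refl c₀).inv_right.pow_left (i : ℕ)).eq, mul_assoc]
        · rw [Perm.mul_apply, f2, hi]
        · rw [map_mul, map_pow, f4, f3, one_pow, one_mul]
      obtain ⟨-, u, hu1, hu2, hu3, -⟩ := h2 _ h1
      rw [← hdet _ hgc u hu1 hu2, hu3] at hg
      exact absurd hg (by decide)
  obtain ⟨s1, s2⟩ := std _ hg'
  constructor
  · intro hgc
    have := s1 (by rw [← ht]; simp only [mul_assoc, inv_mul_cancel_left]; rw [← mul_assoc g c, hgc, mul_assoc])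
    obtain ⟨i, hi⟩ := Subgroup.mem_zpowers_iff.1 this
    refine Subgroup.mem_zpowers_iff.2 ⟨i, ?_⟩
    rw [← ht, conj_zpow] at hi
    exact mul_left_cancel (mul_right_cancel hi)
  · intro hgc
    refine s2 ?_
    rw [← ht]
    calc t * g * t⁻¹ * (t * c * t⁻¹) = t * (g * c) * t⁻¹ := by group
      _ = t * (c⁻¹ * g) * t⁻¹ := by rw [hgc]
      _ = (t * c * t⁻¹)⁻¹ * (t * g * t⁻¹) := by group

/-- An NS group of even permutations of degree 7 or 8 with an element of order 7 has order `21 * s`. -/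
theorem seven_count (hm : m = 7 ∨ m = 8) (I : Subgroup (Perm (Fin m))) (heven : I ≤ alternatingGroup (Fin m))
    (h7 : 7 ∣ Nat.card I) :
    (∃ K : Subgroup I, K.Normal ∧ Nat.card K * 7 = Nat.card I) ∨
      ∃ s : ℕ, Nat.card I = 21 * s ∧ s % 7 = 1 ∧ (s = 1 → ∃ N : Subgroup I, N.Normal ∧ Nat.card N = 7) := by
  classical
  haveI : Fact (Nat.Prime 7) := ⟨by norm_num⟩
  obtain ⟨P⟩ : Nonempty (Sylow 7 I) := inferInstance
  have hle : Nat.card I ∣ Nat.factorial m := by
    have h := Subgroup.card_subgroup_dvd_card I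
    rwa [Nat.card_perm, Nat.card_fin] at h
  have hP : Nat.card (P : Subgroup I) = 7 := by
    obtain ⟨r, hr⟩ := h7
    rw [CfsgLib.SmallSimple.card_sylow_eq P (k := 1) (m := r) (by rw [pow_one, hr]) ?_, pow_one]
    rintro ⟨u, rfl⟩
    have h49 : 49 ∣ Nat.factorial m := (Dvd.intro u (by rw [hr]; ring)).trans hle
    rcases hm with rfl | rfl <;> norm_num [Nat.factorial] at h49
  set N := normalizer ((P : Subgroup I) : Set I) with hN
  by_cases hC : N ≤ centralizer ((P : Subgroup I) : Set I)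
  · obtain ⟨K, hK, hKc⟩ := exists_complement P hC
    exact Or.inl ⟨K, hK, hP ▸ hKc⟩
  obtain ⟨c, hc⟩ := exists_prime_orderOf_dvd_card' (G := (P : Subgroup I)) 7 (by rw [hP])
  have hcI : orderOf (((c : I) : Perm (Fin m))) = 7 := by rw [Subgroup.orderOf_coe, Subgroup.orderOf_coe, hc]
  have hcI' : orderOf (c : I) = 7 := by rw [Subgroup.orderOf_coe, hc]
  have hPc : ∀ x ∈ (P : Subgroup I), ∃ r : ℕ, r < 7 ∧ (c : I) ^ r = x := by
    intro x hx
    obtain ⟨r, hr⟩ := mem_powers_iff_mem_zpowers.2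
      (mem_zpowers_of_prime_card hP (g := c) (g' := ⟨x, hx⟩) (fun e => by
        rw [e, orderOf_one] at hc; norm_num at hc))
    refine ⟨r % 7, Nat.mod_lt _ (by norm_num), ?_⟩
    have hm7 := pow_mod_orderOf (c : I) r
    rw [hcI'] at hm7
    exact hm7.trans (congrArg Subtype.val hr)
  -- exponents
  have hex : ∀ g : N, ∃ r : ℕ, r < 7 ∧ (c : I) ^ r = (g : I) * c * (g : I)⁻¹ := fun g =>
    hPc _ ((mem_normalizer_iff.1 g.2 _).1 c.2)
  choose r hr1 hr2 using hex
  have hsign : ∀ g : I, Perm.sign (g : Perm (Fin m)) = 1 := fun g => Perm.mem_alternatingGroup.1 (heven g.2)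
  have hnoneg : ∀ g : N, r g ≠ 6 := by
    intro g h6
    have h := hr2 g
    rw [h6] at h
    refine (seven_cycle hm _ ((g : I) : Perm (Fin m)) hcI (hsign _)).2 ?_
    have hc6 : ((c : I) : Perm (Fin m))⁻¹ = ((c : I) : Perm (Fin m)) ^ 6 := by
      refine inv_eq_of_mul_eq_one_right ?_
      rw [← pow_succ']
      exact orderOf_dvd_iff_pow_eq_one.1 (hcI.trans rfl).dvd
    have h' : ((c : I) : Perm (Fin m)) ^ 6 = (g : I) * (c : I) * ((g : I) : Perm (Fin m))⁻¹ :=
      congrArg Subtype.val h
    rw [hc6, h', inv_mul_cancel_right]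
  have hcent : ∀ g : N, r g = 1 → (g : I) ∈ (P : Subgroup I) := by
    intro g h1
    have h := hr2 g
    rw [h1, pow_one] at h
    have h' : ((g : I) : Perm (Fin m)) * (c : I) = (c : I) * (g : I) := by
      have := congrArg Subtype.val (eq_mul_inv_iff_mul_eq.1 h)
      exact this.symm
    obtain ⟨i, hi⟩ := Subgroup.mem_zpowers_iff.1 ((seven_cycle hm _ _ hcI (hsign _)).1 h')
    have : (c : I) ^ i = (g : I) := Subtype.ext hi
    exact this ▸ (P : Subgroup I).zpow_mem c.2 i
  have hmul : ∀ g h : N, r (g * h) = r g * r h % 7 := by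
    intro g h
    have e : (c : I) ^ (r (g * h)) = (c : I) ^ (r g * r h % 7) := by
      have hm7 := pow_mod_orderOf (c : I) (r g * r h)
      rw [hcI'] at hm7
      rw [hm7, pow_mul, hr2 g, conj_pow, hr2 h, hr2 (g * h), Subgroup.coe_mul]
      group
    rw [pow_inj_mod, Subgroup.orderOf_coe, hc, Nat.mod_eq_of_lt (hr1 _),
      Nat.mod_eq_of_lt (Nat.mod_lt _ (by norm_num))] at e
    exact e
  have hr0 : ∀ g : N, r g ≠ 0 := by
    intro g h0
    have h := hr2 g
    rw [h0, pow_zero, eq_mul_inv_iff_mul_eq, one_mul, left_eq_mul] at h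
    exact absurd (congrArg orderOf h) (by rw [Subgroup.orderOf_coe, hc, orderOf_one]; norm_num)
  have hrange : ∀ g : N, r g ∈ ({1, 2, 4} : Finset ℕ) := by
    intro g
    have h2 := hmul g g
    have h3 := hmul (g * g) g
    rw [h2] at h3
    have := hnoneg g; have := hnoneg (g * g * g); have := hr1 g; have := hr0 g
    rw [h3] at *
    interval_cases hrg : r g <;> simp_all
  have hcardN : Nat.card N ≤ 21 := by
    have hinj : Function.Injective (fun g : N =>
        ((⟨r g, hrange g⟩ : ({1, 2, 4} : Finset ℕ)), (QuotientGroup.mk (g : I)⁻¹ : I ⧸ (⊥ : Subgroup I)))) := by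
      intro g h e
      have := congrArg Prod.snd e
      exact Subtype.ext (inv_injective (inv_mul_eq_one.1 (Subgroup.mem_bot.1 (QuotientGroup.eq.1 this))))
    clear hinj
    -- fibres of `r` are cosets of `P`
    have hker : ∀ g h : N, r g = r h → (g : I)⁻¹ * h ∈ (P : Subgroup I) := by
      intro g h e
      have h1 : r (g⁻¹ * h) = 1 := by
        have h2 := hmul g (g⁻¹ * h)
        rw [mul_inv_cancel_left] at h2
        have := hrange g; have := hrange (g⁻¹ * h); have := hrange h
        simp only [Finset.mem_insert, Finset.mem_singleton] at *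
        rcases ‹r g = 1 ∨ _› with a | a | a <;> rcases ‹r (g⁻¹ * h) = 1 ∨ _› with b | b | b <;>
          simp_all
      exact hcent _ h1
    calc Nat.card N = Nat.card ((P : Subgroup I).subgroupOf N) * ((P : Subgroup I).subgroupOf N).index :=
          (Subgroup.card_mul_index _).symm
      _ ≤ 7 * 3 := by
        refine Nat.mul_le_mul (le_of_eq ?_) ?_
        · rw [Nat.card_congr (Subgroup.subgroupOfEquivOfLe le_normalizer).toEquiv, hP]
        · refine le_trans (Nat.card_le_card_of_injective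
            (fun q => (⟨r q.out, hrange _⟩ : ({1, 2, 4} : Finset ℕ))) fun a b e => ?_) (le_of_eq (Nat.card_eq_finsetCard _))
          rw [← QuotientGroup.out_eq' a, ← QuotientGroup.out_eq' b]
          exact QuotientGroup.eq.2 (hker _ _ (congrArg Subtype.val e))
  have hcardN' : Nat.card N = 21 := by
    obtain ⟨u, hu⟩ : 7 ∣ Nat.card N := hP ▸ Subgroup.card_dvd_of_le le_normalizer
    have hu1 : u ≠ 1 := by
      intro h1
      refine hC ?_
      have : (P : Subgroup I) = N := Subgroup.eq_of_le_of_card_ge le_normalizer (by rw [hu, h1, hP])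
      rw [← this]
      exact fun x hx => mem_centralizer_iff.2 fun y hy => by
        obtain ⟨i, -, rfl⟩ := hPc x hx
        obtain ⟨j, -, rfl⟩ := hPc y hy
        exact (Commute.pow_pow_self _ j i).eq
    have hu2 : u ≠ 2 := by
      intro h2
      obtain ⟨g, hg⟩ := exists_prime_orderOf_dvd_card' (G := N) 2 (by rw [hu, h2]; norm_num)
      have hgg : g * g = 1 := by rw [← pow_two, ← hg, pow_orderOf_eq_one]
      have h := hmul g g
      rw [hgg] at h
      have h11 := hmul 1 1
      rw [mul_one] at h11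
      have := hrange g; have := hrange (1 : N)
      simp only [Finset.mem_insert, Finset.mem_singleton] at *
      have hg1 : r g = 1 := by
        rcases ‹r g = 1 ∨ _› with a | a | a <;> rcases ‹r 1 = 1 ∨ _› with b | b | b <;>
          (rw [a, b] at h; rw [b] at h11; first | exact a | omega)
      have hd : orderOf (g : I) ∣ Nat.card (P : Subgroup I) := by
        have := orderOf_dvd_natCard (⟨(g : I), hcent g hg1⟩ : (P : Subgroup I))
        rwa [Subgroup.orderOf_mk] at this
      rw [Subgroup.orderOf_coe, hg, hP] at hd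
      norm_num at hd
    have hu0 : u ≠ 0 := fun h => Nat.card_pos.ne' (hu.trans (by rw [h, mul_zero]))
    omega
  refine Or.inr ⟨Nat.card (Sylow 7 I), ?_, ?_, fun h1 => ⟨P, ?_, hP⟩⟩
  · rw [← CfsgLib.SmallSimple.card_sylow_mul P, ← hN, hcardN', mul_comm]
  · exact Eq.trans (card_sylow_modEq_one 7 I) (by norm_num)
  · haveI := (Nat.card_eq_one_iff_unique.1 h1).1
    exact Sylow.normal_of_subsingleton P

theorem degree_seven (I : Subgroup (Perm (Fin 7))) [Nontrivial I] (hns : NS I)
    (ht : IsPretransitive I (Fin 7)) (heven : I ≤ alternatingGroup (Fin 7)) :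
    Nonempty (I ≃* alternatingGroup (Fin 7)) ∨ (Nat.card I = 168 ∧ IsSimpleGroup I) := by
  have hfac : Nat.card (alternatingGroup (Fin 7)) = 2520 := by
    have h2 := two_mul_nat_card_alternatingGroup (α := Fin 7)
    rw [Nat.card_perm, Nat.card_fin] at h2
    simp only [Nat.factorial] at h2; omega
  have hd : Nat.card I ∣ 2520 := hfac ▸ Subgroup.card_dvd_of_le heven
  haveI := ht
  have h7 : 7 ∣ Nat.card I := by
    have h := (MulAction.stabilizer I (0 : Fin 7)).index_dvd_card
    rwa [MulAction.index_stabilizer_of_transitive, Nat.card_fin] at h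
  rcases seven_count (Or.inl rfl) I heven h7 with ⟨K, hK, hKc⟩ | ⟨s, hs, hs7, hs1⟩
  · exfalso
    haveI := hK
    haveI : IsPreprimitive I (Fin 7) := IsPreprimitive.of_prime_card (by rw [Nat.card_fin]; norm_num)
    rcases eq_or_ne K ⊥ with hb | hb
    · refine false_of_isSolvable_two hns 7 2 1 0 (by norm_num) Nat.prime_two ?_
      rw [← hKc, hb, Subgroup.card_bot]; norm_num
    · have hfix : fixedPoints K (Fin 7) ≠ Set.univ := by
        intro hu
        refine hb (eq_bot_iff.2 fun k hk => Subgroup.mem_bot.2 (Subtype.ext (Equiv.ext fun x => ?_)))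
        exact (hu ▸ Set.mem_univ x : x ∈ fixedPoints K (Fin 7)) ⟨k, hk⟩
      haveI := IsQuasiPreprimitive.isPretransitive_of_normal (G := I) (X := Fin 7) hfix
      have h := (MulAction.stabilizer K (0 : Fin 7)).index_dvd_card
      rw [MulAction.index_stabilizer_of_transitive, Nat.card_fin] at h
      have h49 : 49 ∣ 2520 := ((show (49:ℕ) = 7 * 7 from rfl) ▸ hKc ▸ Nat.mul_dvd_mul_right h 7 : 49 ∣ Nat.card I).trans hd
      norm_num at h49
  have key : ∀ s ∈ List.range 121, s ∣ 120 → s % 7 = 1 → s = 1 ∨ s = 8 ∨ s = 15 ∨ s = 120 := by decide +kernel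
  have hsd : s ∣ 120 := Nat.dvd_of_mul_dvd_mul_left (by norm_num : 0 < 21) (by rw [← hs]; exact hd)
  rcases key s (List.mem_range.2 (Nat.lt_succ_of_le (Nat.le_of_dvd (by norm_num) hsd))) hsd hs7 with
    rfl | rfl | rfl | rfl
  · obtain ⟨N, hN, hNc⟩ := hs1 rfl
    have hb := hns N hN (isSolvable_of_dvd_two 7 2 1 0 (by norm_num) Nat.prime_two (by rw [hNc]; norm_num))
    rw [hb, Subgroup.card_bot] at hNc
    norm_num at hNc
  · exact Or.inr ⟨hs, hns.isSimpleGroup (by rw [hs]; unfold OrdTest; decide +kernel)⟩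
  · exact (hns.false_of_test 315 (by norm_num) (by rw [hs]) (by unfold OrdTest; decide +kernel)).elim
  · have : I = alternatingGroup (Fin 7) := Subgroup.eq_of_le_of_card_ge heven (by rw [hfac, hs])
    exact Or.inl ⟨MulEquiv.subgroupCongr this⟩

theorem preprimitive_eight (I : Subgroup (Perm (Fin 8))) [Nontrivial I] (hns : NS I)
    (ht : IsPretransitive I (Fin 8)) : IsPreprimitive I (Fin 8) := by
  haveI := ht
  obtain ⟨p, hp, hp4, g, hg⟩ : ∃ p : ℕ, p.Prime ∧ 4 < p ∧ ∃ g : I, orderOf g = p := by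
    by_contra hno
    push_neg at hno
    have hd : Nat.card I ∣ 2 ^ 7 * 3 ^ 2 := by
      have h := Subgroup.card_subgroup_dvd_card I
      rw [Nat.card_perm, Nat.card_fin, show Nat.factorial 8 = (2 ^ 7 * 3 ^ 2) * 35 by norm_num [Nat.factorial]] at h
      refine (Nat.Coprime.dvd_mul_right ?_).1 h
      rw [show (35 : ℕ) = 5 * 7 from rfl, Nat.coprime_mul_iff_right]
      constructor <;>
      · rw [Nat.coprime_comm, Nat.Prime.coprime_iff_not_dvd (by norm_num)]
        intro hdv
        haveI : Fact (Nat.Prime 5) := ⟨by norm_num⟩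
        haveI : Fact (Nat.Prime 7) := ⟨by norm_num⟩
        obtain ⟨g, hg⟩ := exists_prime_orderOf_dvd_card' (G := I) _ hdv
        exact hno _ (by norm_num) (by norm_num) g hg
    exact false_of_isSolvable_two hns 2 3 7 2 Nat.prime_two Nat.prime_three hd
  refine IsPreprimitive.mk (fun {B} hB => ?_)
  by_contra hnt
  have hne : B.Nonempty := Set.nonempty_iff_ne_empty.2 fun h => hnt (Or.inl (by rw [h]; exact Set.subsingleton_empty))
  have hcard := hB.ncard_block_mul_ncard_orbit_eq hne
  rw [Nat.card_fin] at hcard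
  have h2 : 2 ≤ B.ncard := by
    by_contra hlt
    exact hnt (Or.inl ((Set.ncard_le_one (Set.toFinite B)).1 (by omega)))
  have h8 : B.ncard ≠ 8 := fun h => hnt (Or.inr (Set.eq_of_subset_of_ncard_le (Set.subset_univ B)
    (by rw [Set.ncard_univ, Nat.card_fin, h]) (Set.toFinite _)))
  have hq : (MulAction.orbit I B).ncard ≤ 4 ∧ B.ncard ≤ 4 := by
    have hd : B.ncard ∣ 8 := Dvd.intro _ hcard
    have : B.ncard = 2 ∨ B.ncard = 4 := by
      have h := Nat.le_of_dvd (by norm_num) hd
      interval_cases hb : B.ncard <;> simp_all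
    rcases this with h | h <;> rw [h] at hcard ⊢ <;> omega
  obtain ⟨b, hb⟩ := hne
  have hall : ∀ x : Fin 8, g • x = x := by
    intro x
    obtain ⟨h, rfl⟩ := MulAction.exists_smul_eq I b x
    have hfixB : g • (h • B) = h • B := by
      refine fix_of_invariant hp hg (MulAction.orbit I B) (Set.toFinite _) ?_ (by omega) ⟨h, rfl⟩
      rintro - ⟨k, rfl⟩
      exact ⟨g * k, mul_smul g k B⟩
    refine fix_of_invariant hp hg (h • B) (Set.toFinite _) (fun y hy => ?_) ?_ (Set.smul_mem_smul_set hb)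
    · rw [← hfixB]; exact Set.smul_mem_smul_set hy
    · rw [Set.ncard_smul_set]; omega
  have : g = 1 := Subtype.ext (Equiv.ext hall)
  rw [this, orderOf_one] at hg
  omega

theorem degree_eight (I : Subgroup (Perm (Fin 8))) [Nontrivial I] (hns : NS I)
    (ht : IsPretransitive I (Fin 8)) (heven : I ≤ alternatingGroup (Fin 8)) :
    Nonempty (I ≃* alternatingGroup (Fin 8)) ∨ (Nat.card I = 168 ∧ IsSimpleGroup I) ∨ Nat.card I = 1344 := by
  classical
  haveI := preprimitive_eight I hns ht
  have hfac : Nat.card (alternatingGroup (Fin 8)) = 20160 := by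
    have h2 := two_mul_nat_card_alternatingGroup (α := Fin 8)
    rw [Nat.card_perm, Nat.card_fin] at h2
    simp only [Nat.factorial] at h2; omega
  have hd : Nat.card I ∣ 20160 := hfac ▸ Subgroup.card_dvd_of_le heven
  haveI : Fact (Nat.Prime 5) := ⟨by norm_num⟩
  by_cases h5 : 5 ∣ Nat.card I
  · refine Or.inl ?_
    obtain ⟨c, hc⟩ := exists_prime_orderOf_dvd_card' (G := I) 5 h5
    have hc' : orderOf (c : Perm (Fin 8)) = 5 := by rw [Subgroup.orderOf_coe, hc]
    obtain ⟨r, hr⟩ := Perm.cycleType_prime_order (σ := (c : Perm (Fin 8))) (by rw [hc']; norm_num)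
    rw [hc'] at hr
    have hr0 : r = 0 := by
      have h1 := (c : Perm (Fin 8)).sum_cycleType
      have h2 := Finset.card_le_univ (c : Perm (Fin 8)).support
      rw [hr, Multiset.sum_replicate, smul_eq_mul] at h1
      rw [Fintype.card_fin] at h2
      omega
    subst hr0
    have hcyc : (c : Perm (Fin 8)).IsCycle := Perm.card_cycleType_eq_one.1 (by rw [hr]; rfl)
    have hsupp : (c : Perm (Fin 8)).support.card = 5 := by rw [← Perm.sum_cycleType, hr]; rfl
    have : I = alternatingGroup (Fin 8) :=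
      le_antisymm heven (CfsgLib.Jordan.alternatingGroup_le_of_isCycle (inferInstance : IsPreprimitive I (Fin 8))
        c.2 hcyc (by rw [hsupp]; norm_num) (by rw [hsupp, Fintype.card_fin]))
    exact ⟨MulEquiv.subgroupCongr this⟩
  have hd' : Nat.card I ∣ 4032 := by
    refine (Nat.Coprime.dvd_mul_right ?_).1 (show Nat.card I ∣ 4032 * 5 from hd)
    rw [Nat.coprime_comm, Nat.Prime.coprime_iff_not_dvd (by norm_num)]
    exact h5
  by_cases h7 : 7 ∣ Nat.card I
  swap
  · refine (false_of_isSolvable_two hns 2 3 6 2 Nat.prime_two Nat.prime_three ?_).elim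
    refine (Nat.Coprime.dvd_mul_right ?_).1 (show Nat.card I ∣ (2 ^ 6 * 3 ^ 2) * 7 from hd')
    rw [Nat.coprime_comm, Nat.Prime.coprime_iff_not_dvd (by norm_num)]
    exact h7
  rcases seven_count (Or.inr rfl) I heven h7 with ⟨K, hK, hKc⟩ | ⟨s, hs, hs7, hs1⟩
  · exfalso
    have hb : K = ⊥ := hns K hK (isSolvable_of_dvd_two 2 3 6 2 Nat.prime_two Nat.prime_three
      (Nat.dvd_of_mul_dvd_mul_right (by norm_num : 0 < 7) (by rw [hKc]; exact hd')))
    refine false_of_isSolvable_two hns 7 2 1 0 (by norm_num) Nat.prime_two ?_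
    rw [← hKc, hb, Subgroup.card_bot]; norm_num
  have key : ∀ s ∈ List.range 193, s ∣ 192 → s % 7 = 1 → s = 1 ∨ s = 8 ∨ s = 64 := by decide +kernel
  have hsd : s ∣ 192 := Nat.dvd_of_mul_dvd_mul_left (by norm_num : 0 < 21) (by rw [← hs]; exact hd')
  rcases key s (List.mem_range.2 (Nat.lt_succ_of_le (Nat.le_of_dvd (by norm_num) hsd))) hsd hs7 with
    rfl | rfl | rfl
  · obtain ⟨N, hN, hNc⟩ := hs1 rfl
    have hb := hns N hN (isSolvable_of_dvd_two 7 2 1 0 (by norm_num) Nat.prime_two (by rw [hNc]; norm_num))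
    rw [hb, Subgroup.card_bot] at hNc
    norm_num at hNc
  · exact Or.inr (Or.inl ⟨hs, hns.isSimpleGroup (by rw [hs]; unfold OrdTest; decide +kernel)⟩)
  · exact Or.inr (Or.inr hs)

end CfsgLib.RadFree
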